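import Mathlib
import Cfsg.Agent.Base
import Cfsg.Agent.Lib.GL.Basic
import Cfsg.Agent.Lib.Thompson.SL2Sub

/-! `L₂(11)` in `SL₅(3)`: normal form of the generators. -/

set_option autoImplicit false
set_option linter.style.haveILetI false

namespace H99.R5.NM

open Matrix MatrixGroups Subgroup

/-- vectors -/
abbrev V := Fin 5 → ZMod 3
/-- matrices -/
abbrev M := Matrix (Fin 5) (Fin 5) (ZMod 3)

instance fact3 : Fact (Nat.Prime 3) := ⟨Nat.prime_three⟩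
instance fact11 : Fact (Nat.Prime 11) := ⟨by norm_num⟩

/-- powers of the element of order eleven -/
def Cp : ZMod 11 → M :=
  ![!![1, 0, 0, 0, 0; 0, 1, 0, 0, 0; 0, 0, 1, 0, 0; 0, 0, 0, 1, 0; 0, 0, 0, 0, 1],
  !![0, 0, 0, 0, 1; 1, 0, 0, 0, 0; 0, 1, 0, 0, 2; 0, 0, 1, 0, 1; 0, 0, 0, 1, 2],
  !![0, 0, 0, 1, 2; 0, 0, 0, 0, 1; 1, 0, 0, 2, 1; 0, 1, 0, 1, 1; 0, 0, 1, 2, 2],
  !![0, 0, 1, 2, 2; 0, 0, 0, 1, 2; 0, 0, 2, 1, 2; 1, 0, 1, 1, 0; 0, 1, 2, 2, 2],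
  !![0, 1, 2, 2, 2; 0, 0, 1, 2, 2; 0, 2, 1, 2, 0; 0, 1, 1, 0, 1; 1, 2, 2, 2, 1],
  !![1, 2, 2, 2, 1; 0, 1, 2, 2, 2; 2, 1, 2, 0, 1; 1, 1, 0, 1, 1; 2, 2, 2, 1, 0],
  !![2, 2, 2, 1, 0; 1, 2, 2, 2, 1; 1, 2, 0, 1, 2; 1, 0, 1, 1, 1; 2, 2, 1, 0, 1],
  !![2, 2, 1, 0, 1; 2, 2, 2, 1, 0; 2, 0, 1, 2, 0; 0, 1, 1, 1, 0; 2, 1, 0, 1, 0],
  !![2, 1, 0, 1, 0; 2, 2, 1, 0, 1; 0, 1, 2, 0, 0; 1, 1, 1, 0, 0; 1, 0, 1, 0, 0],
  !![1, 0, 1, 0, 0; 2, 1, 0, 1, 0; 1, 2, 0, 0, 1; 1, 1, 0, 0, 0; 0, 1, 0, 0, 0],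
  !![0, 1, 0, 0, 0; 1, 0, 1, 0, 0; 2, 0, 0, 1, 0; 1, 0, 0, 0, 1; 1, 0, 0, 0, 0]]

/-- powers of the element of order five -/
def Hp : ZMod 5 → M :=
  ![!![1, 0, 0, 0, 0; 0, 1, 0, 0, 0; 0, 0, 1, 0, 0; 0, 0, 0, 1, 0; 0, 0, 0, 0, 1],
  !![1, 1, 0, 0, 1; 0, 0, 1, 0, 2; 0, 2, 2, 0, 1; 0, 1, 1, 0, 1; 0, 2, 1, 1, 0],
  !![1, 0, 2, 1, 0; 0, 0, 1, 2, 1; 0, 0, 1, 1, 0; 0, 1, 1, 1, 0; 0, 0, 2, 0, 0],
  !![1, 0, 2, 0, 1; 0, 0, 2, 1, 0; 0, 0, 0, 0, 2; 0, 0, 1, 0, 1; 0, 1, 1, 0, 2],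
  !![1, 1, 2, 1, 0; 0, 2, 2, 0, 0; 0, 1, 2, 2, 0; 0, 1, 0, 1, 1; 0, 0, 2, 2, 0]]

/-- inverse of the normal basis matrix -/
def Ni : M := !![2, 1, 2, 0, 0; 2, 0, 2, 0, 0; 2, 0, 1, 0, 1; 2, 0, 0, 1, 0; 2, 0, 1, 0, 0]

/-- the twenty-two vectors -/
def X0 : List V := [![1, 0, 0, 0, 0], ![0, 1, 0, 0, 0], ![0, 0, 1, 0, 0], ![0, 0, 0, 1, 0], ![0, 0, 0, 0, 1],
  ![1, 0, 2, 1, 2], ![2, 1, 1, 1, 2], ![2, 2, 2, 0, 2], ![2, 2, 0, 1, 1], ![1, 2, 1, 1, 0], ![0, 1, 2, 1, 1],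
  ![2, 0, 0, 0, 0], ![0, 2, 0, 0, 0], ![0, 0, 2, 0, 0], ![0, 0, 0, 2, 0], ![0, 0, 0, 0, 2], ![2, 0, 1, 2, 1],
  ![1, 2, 2, 2, 1], ![1, 1, 1, 0, 1], ![1, 1, 0, 2, 2], ![2, 1, 2, 2, 0], ![0, 2, 1, 2, 2]]

/-- basis vector -/
def e0 : V := ![1, 0, 0, 0, 0]
/-- basis vector -/
def e1 : V := ![0, 1, 0, 0, 0]

theorem forall5 {p : V → Prop} (h : ∀ a b c d e, p ![a, b, c, d, e]) (v : V) : p v := by
  have : v = ![v 0, v 1, v 2, v 3, v 4] := by ext i; fin_cases i <;> rfl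
  rw [this]; exact h _ _ _ _ _

theorem C_pow (n : ℕ) : Cp 1 ^ n = Cp n := by
  induction n with
  | zero => decide +kernel
  | succ n ih => rw [pow_succ, ih, Nat.cast_succ]; generalize (n : ZMod 11) = t; revert t; decide +kernel

theorem H_pow (n : ℕ) : Hp 1 ^ n = Hp n := by
  induction n with
  | zero => decide +kernel
  | succ n ih => rw [pow_succ, ih, Nat.cast_succ]; generalize (n : ZMod 5) = t; revert t; decide +kernel

theorem H_pow' (n : ℕ) : Hp 4 ^ n = Hp (-n) := by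
  induction n with
  | zero => decide +kernel
  | succ n ih => rw [pow_succ, ih, Nat.cast_succ]; generalize (n : ZMod 5) = t; revert t; decide +kernel

theorem fix_modEq (A : M) (p : ℕ) [Fact p.Prime] (hA : A ^ p = 1) (K : Set V) (hK : ∀ v ∈ K, A *ᵥ v ∈ K) :
    K.ncard ≡ (K ∩ {v | A *ᵥ v = v}).ncard [MOD p] := by
  classical
  let f : Function.End K := fun v => ⟨A *ᵥ v, hK v v.2⟩
  have hf : ∀ (n : ℕ) (v : K), ((f ^ n) v : V) = (A ^ n) *ᵥ v := fun n => by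
    induction n with
    | zero => intro v; simp; rfl
    | succ n ih => intro v; rw [pow_succ, pow_succ, ← mulVec_mulVec, ← ih (f v)]; rfl
  have h := Equiv.Perm.card_fixedPoints_modEq (f := f) (p := p) (n := 1)
    (funext fun v => Subtype.ext (by rw [pow_one, hf, hA, one_mulVec]; rfl))
  rw [← Nat.card_eq_fintype_card, ← Nat.card_eq_fintype_card, Nat.card_coe_set_eq] at h
  rwa [← Nat.card_coe_set_eq (K ∩ _), ← Nat.card_congr (α := f.fixedPoints)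
    ⟨fun v => ⟨v.1.1, v.1.2, congrArg Subtype.val v.2⟩, fun v => ⟨⟨v.1, v.2.1⟩, Subtype.ext v.2.2⟩,
      fun _ => rfl, fun _ => rfl⟩]

/-- a factor of the eleventh cyclotomic polynomial -/
def f1 (A : M) : M := A ^ 5 + A ^ 4 - A ^ 3 + A ^ 2 - 1

/-- the matrix of a cyclic vector -/
def tm (A : M) (u : V) : M := of fun i j => (A ^ (j : ℕ) *ᵥ u) i

theorem tm_e0 (A : M) (u : V) : tm A u *ᵥ e0 = u := by
  ext i
  change ∑ j : Fin 5, (A ^ (j : ℕ) *ᵥ u) i * e0 j = u i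
  simp [Fin.sum_univ_five, e0]

theorem tm_mul {A : M} {u : V} (h : f1 A *ᵥ u = 0) : A * tm A u = tm A u * Cp 1 := by
  ext i j
  have e : (A * tm A u) i j = (A ^ ((j : ℕ) + 1) *ᵥ u) i := by rw [pow_succ', ← mulVec_mulVec]; rfl
  have h' := congrFun h i
  simp only [f1, sub_mulVec, add_mulVec, one_mulVec, Pi.add_apply, Pi.sub_apply, Pi.zero_apply] at h'
  have h3 : (3 : ZMod 3) = 0 := rfl
  have c : Cp 1 = !![0, 0, 0, 0, 1; 1, 0, 0, 0, 0; 0, 1, 0, 0, 2; 0, 0, 1, 0, 1; 0, 0, 0, 1, 2] := rfl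
  rw [e, mul_apply, c, Fin.sum_univ_five]
  fin_cases j <;> simp [tm]
  linear_combination h' - ((A ^ 4 *ᵥ u) i + (A ^ 2 *ᵥ u) i) * h3

theorem tm_unit {A : M} {u : V} (h : f1 A *ᵥ u = 0) (u0 : u ≠ 0) : IsUnit (tm A u) := by
  let K := (tm A u).mulVecLin.ker.toAddSubgroup
  have hK : ∀ v, v ∈ K ↔ tm A u *ᵥ v = 0 := fun v => Iff.rfl
  have m := fix_modEq (Cp 1) 11 (by rw [C_pow]; decide +kernel) K fun v hv => (hK _).2 (by
    rw [mulVec_mulVec, ← tm_mul h, ← mulVec_mulVec, (hK v).1 hv, mulVec_zero])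
  have e : (K : Set V) ∩ {v | Cp 1 *ᵥ v = v} = {0} := by
    ext v
    refine ⟨fun hv => ?_, ?_⟩
    · exact forall5 (p := fun v => Cp 1 *ᵥ v = v → v = 0) (by decide +kernel) v hv.2
    · rintro rfl; exact ⟨K.zero_mem, mulVec_zero _⟩
  rw [e, Set.ncard_singleton] at m
  change Nat.card K % 11 = 1 at m
  have c : Nat.card V = 3 ^ 5 := by simp
  have d := K.card_addSubgroup_dvd_card
  rw [c] at d
  obtain ⟨i, hi, hc⟩ := (Nat.dvd_prime_pow Nat.prime_three).1 d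
  have n : K ≠ ⊤ := fun e => u0 (by rw [← tm_e0 A u, ← hK, e]; trivial)
  have b : K = ⊥ := by
    rw [← AddSubgroup.card_eq_one]
    have : Nat.card K ≠ 3 ^ 5 := fun e => n (AddSubgroup.eq_top_of_card_eq K (e.trans c.symm))
    rw [hc] at m this ⊢
    interval_cases i <;> simp_all
  refine mulVec_injective_iff_isUnit.1 fun v w e => sub_eq_zero.1 ?_
  rw [← AddSubgroup.mem_bot, ← b, hK, mulVec_sub, e, sub_self]

theorem f1_zero {A : M} {u : V} (h : f1 A *ᵥ u = 0) (u0 : u ≠ 0) : f1 A = 0 := by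
  have k : ∀ n : ℕ, A ^ n * tm A u = tm A u * Cp 1 ^ n := fun n => by
    induction n with
    | zero => simp
    | succ n ih => rw [pow_succ', mul_assoc, ih, ← mul_assoc, tm_mul h, mul_assoc, ← pow_succ']
  have : f1 A * tm A u = tm A u * f1 (Cp 1) := by
    simp only [f1, sub_mul, add_mul, mul_sub, mul_add, k, one_mul, mul_one]
  rw [show f1 (Cp 1) = 0 by simp only [f1, C_pow]; decide +kernel, mul_zero] at this
  exact (tm_unit h u0).mul_left_eq_zero.1 this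

theorem H_eq {A : M} (h1 : A * Cp 1 = Cp 1 ^ 9 * A) (h2 : A *ᵥ e0 = e0) : A = Hp 4 := by
  have k : ∀ n : ℕ, A * Cp 1 ^ n = Cp 1 ^ (9 * n) * A := fun n => by
    induction n with
    | zero => simp
    | succ n ih => rw [pow_succ, ← mul_assoc, ih, mul_assoc, h1, ← mul_assoc, ← pow_add, mul_add]
  refine ext_of_mulVec_single fun j => ?_
  have e : (Pi.single j 1 : V) = Cp 1 ^ (j : ℕ) *ᵥ e0 := by rw [C_pow]; revert j; decide +kernel
  rw [e, mulVec_mulVec, k, ← mulVec_mulVec, h2, C_pow, C_pow]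
  revert j; decide +kernel

/-- the candidates for the involution -/
def Wm (u : V) : M := (of fun i (j : Fin 5) => (Hp (j : ℕ) *ᵥ u) i) * Ni

theorem W_eq {A : M} (h1 : A * Hp 4 = Hp 4 ^ 4 * A) (h2 : A * A = 1)
    (h3 : A * Cp 1 * A = Cp 10 * A * Cp 10) : A = Wm e1 := by
  have k : ∀ n : ℕ, A * Hp 4 ^ n = Hp 1 ^ n * A := fun n => by
    induction n with
    | zero => simp
    | succ n ih => rw [pow_succ, ← mul_assoc, ih, mul_assoc, h1, H_pow' 4, ← mul_assoc, pow_succ]; rfl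
  have e : A = Wm (A *ᵥ e1) := by
    have n : (of fun i (j : Fin 5) => (Hp 4 ^ (j : ℕ) *ᵥ e1) i) * Ni = 1 := by
      simp only [H_pow']; decide +kernel
    refine (mul_one A).symm.trans ?_
    rw [← n, ← mul_assoc, Wm]
    congr 1
    ext i j
    change (A *ᵥ (Hp 4 ^ (j : ℕ) *ᵥ e1)) i = _
    rw [mulVec_mulVec, k, ← mulVec_mulVec, H_pow]
    rfl
  have := forall5 (p := fun u => Wm u *ᵥ u = e1 →
    Wm u *ᵥ (Cp 1 *ᵥ (Wm u *ᵥ e0)) = Cp 10 *ᵥ (Wm u *ᵥ (Cp 10 *ᵥ e0)) → u = e1) (by decide +kernel)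
    (A *ᵥ e1) (by rw [← e, mulVec_mulVec, h2, one_mulVec])
    (by simp only [← e, mulVec_mulVec, ← mul_assoc, h3])
  rw [e, this]

/-- generators of `L₂(11)` -/
structure Gen {Γ : Type*} [Group Γ] (x h w : Γ) : Prop where
  x11 : x ^ 11 = 1
  x1 : x ≠ 1
  h5 : h ^ 5 = 1
  h1 : h ≠ 1
  hx : h * x = x ^ 9 * h
  ww : w * w = 1
  wh : w * h = h ^ 4 * w
  wx : w * x * w = x⁻¹ * w * x⁻¹
  top : Subgroup.closure {x, w} = ⊤

section
variable {Γ : Type*} [Group Γ] {x h w : Γ}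

theorem Gen.inv (g : Gen x h w) : Gen x⁻¹ h w where
  x11 := by rw [inv_pow, g.x11, inv_one]
  x1 := inv_ne_one.2 g.x1
  h5 := g.h5
  h1 := g.h1
  hx := by
    calc h * x⁻¹ = (x ^ 9)⁻¹ * (x ^ 9 * h) * x⁻¹ := by group
      _ = _ := by rw [← g.hx]; group
  ww := g.ww
  wh := g.wh
  wx := by
    have e := congrArg (·⁻¹) g.wx
    simp only [_root_.mul_inv_rev, inv_eq_of_mul_eq_one_right g.ww, inv_inv] at e ⊢
    simp only [mul_assoc, e]
  top := by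
    rw [eq_top_iff, ← g.top, closure_le]
    rintro _ (rfl | rfl)
    · exact (Subgroup.inv_mem_iff _).1 (subset_closure (by simp))
    · exact subset_closure (by simp)

theorem Gen.map {Δ : Type*} [Group Δ] (g : Gen x h w) (e : Γ ≃* Δ) : Gen (e x) (e h) (e w) where
  x11 := by rw [← map_pow, g.x11, map_one]
  x1 := e.map_ne_one_iff.2 g.x1
  h5 := by rw [← map_pow, g.h5, map_one]
  h1 := e.map_ne_one_iff.2 g.h1
  hx := by simpa using congrArg e g.hx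
  ww := by simpa using congrArg e g.ww
  wh := by simpa using congrArg e g.wh
  wx := by simpa using congrArg e g.wx
  top := by
    have := congrArg (Subgroup.map e.toMonoidHom) g.top
    rwa [MonoidHom.map_closure, Set.image_pair, map_top_of_surjective _ e.surjective] at this

theorem exists_gen : ∃ x h w : PSL(2, ZMod 11), Gen x h w := by
  let π : SL(2, ZMod 11) →* PSL(2, ZMod 11) := QuotientGroup.mk' _
  let x : SL(2, ZMod 11) := ⟨!![1, 1; 0, 1], by decide⟩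
  let h : SL(2, ZMod 11) := ⟨!![3, 0; 0, 4], by decide⟩
  let w : SL(2, ZMod 11) := ⟨!![0, 1; 10, 0], by decide⟩
  have ne : ∀ g k : SL(2, ZMod 11), k * g ≠ g * k → π g ≠ 1 := fun g k hk e =>
    hk (mem_center_iff.1 ((QuotientGroup.eq_one_iff g).1 e) k)
  have m : π (-1) = 1 := (QuotientGroup.eq_one_iff _).2 (mem_center_iff.2 fun g => by simp)
  refine ⟨π x, π h, π w, ?_, ne x w (by decide), ?_, ne h w (by decide), ?_, ?_, ?_, ?_, ?_⟩
  · rw [← map_pow, show x ^ 11 = 1 by decide +kernel, map_one]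
  · rw [← map_pow, show h ^ 5 = 1 by decide +kernel, map_one]
  · rw [← map_pow, ← map_mul, ← map_mul]; exact congrArg π (by decide +kernel)
  · rw [← map_mul, ← m]; exact congrArg π (by decide +kernel)
  · rw [← map_pow, ← map_mul, ← map_mul]; exact congrArg π (by decide +kernel)
  · rw [← map_inv, ← map_mul, ← map_mul, ← map_mul, ← map_mul, ← one_mul (π (w * x * w)), ← m, ← map_mul]
    exact congrArg π (by decide +kernel)
  · rw [← Set.image_pair, ← MonoidHom.map_closure]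
    have : Subgroup.closure {x, w} = ⊤ := by
      rw [eq_top_iff, ← H24.closure_upT_loT_zmod 11, closure_le]
      rintro _ (rfl | rfl)
      · exact subset_closure (Or.inl rfl)
      · rw [show H24.loT (1 : ZMod 11) = w * x⁻¹ * w⁻¹ by decide +kernel]
        exact mul_mem (mul_mem (subset_closure (by simp)) (inv_mem (subset_closure (by simp))))
          (inv_mem (subset_closure (by simp)))
    rw [this, map_top_of_surjective _ (QuotientGroup.mk'_surjective _)]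

/-- change of basis -/
def cb (T : GL (Fin 5) (ZMod 3)) : M →* M where
  toFun A := (T⁻¹).val * A * T.val
  map_one' := by simp
  map_mul' a b := by simp only [mul_assoc, Units.mul_inv_cancel_left]

theorem cb_apply (T : GL (Fin 5) (ZMod 3)) (A : M) : cb T A = (T⁻¹).val * A * T.val := rfl

theorem Gen.form (g : Gen x h w) (ρ : Γ →* M) {u : V} (h1 : f1 (ρ x) *ᵥ u = 0) (u0 : u ≠ 0) :
    ∃ T : GL (Fin 5) (ZMod 3), cb T (ρ x) = Cp 1 ∧ cb T (ρ h) = Hp 4 ∧ cb T (ρ w) = Wm e1 := by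
  haveI : Fact (Nat.Prime 5) := ⟨Nat.prime_five⟩
  obtain ⟨v, v1, v0⟩ : ∃ v, ρ h *ᵥ v = v ∧ v ≠ 0 := by
    by_contra! hc
    have m := fix_modEq (ρ h) 5 (by rw [← map_pow, g.h5, map_one]) Set.univ fun _ _ => trivial
    have e : Set.univ ∩ {v | ρ h *ᵥ v = v} = {0} := by
      ext v
      refine ⟨fun hv => hc v hv.2, ?_⟩
      rintro rfl; exact ⟨trivial, mulVec_zero _⟩
    rw [e, Set.ncard_singleton, Set.ncard_univ, show Nat.card V = 3 ^ 5 by simp] at m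
    exact absurd m (by decide)
  have h2 : f1 (ρ x) *ᵥ v = 0 := by rw [f1_zero h1 u0, zero_mulVec]
  obtain ⟨T, hT⟩ := tm_unit h2 v0
  let σ : Γ →* M := (cb T).comp ρ
  have e1 : σ x = Cp 1 := by
    change (T⁻¹).val * ρ x * T.val = _
    rw [mul_assoc, hT, tm_mul h2, ← hT, Units.inv_mul_cancel_left]
  have e2 : σ h = Hp 4 := H_eq (by rw [← e1, ← map_pow, ← map_mul, ← map_mul, g.hx]) (by
    change ((T⁻¹).val * ρ h * T.val) *ᵥ e0 = e0
    rw [← mulVec_mulVec, ← mulVec_mulVec, hT, tm_e0, v1, ← tm_e0 (ρ x) v, ← hT, mulVec_mulVec,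
      Units.inv_mul, one_mulVec])
  have e3 : σ x⁻¹ = Cp 10 := by
    rw [show x⁻¹ = x ^ 10 from inv_eq_of_mul_eq_one_right (by rw [← pow_succ', g.x11]), map_pow, e1, C_pow]
    rfl
  exact ⟨T, e1, e2, W_eq (A := σ w) (by rw [← e2, ← map_pow, ← map_mul, ← map_mul, g.wh])
    (by rw [← map_mul, g.ww, map_one]) (by simp only [← e1, ← e3, ← map_mul, g.wx])⟩

theorem Gen.root (g : Gen x h w) (ρ : Γ →* M) (hρ : Function.Injective ρ) :
    ∃ u ≠ 0, f1 (ρ x) *ᵥ u = 0 ∨ f1 (ρ x⁻¹) *ᵥ u = 0 := by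
  obtain ⟨v, hv⟩ : ∃ v, (ρ x - 1) *ᵥ v ≠ 0 := by
    by_contra! hc
    refine g.x1 (hρ ?_)
    rw [map_one, ← sub_eq_zero]
    exact ext_of_mulVec_single fun i => by rw [hc, zero_mulVec]
  have p : ∀ A : M, f1 A * ((A ^ 5 - A ^ 3 + A ^ 2 - A - 1) * (A - 1)) = A ^ 11 - 1 := fun A => by
    have : ((Polynomial.X ^ 5 + Polynomial.X ^ 4 - Polynomial.X ^ 3 + Polynomial.X ^ 2 - 1) *
        ((Polynomial.X ^ 5 - Polynomial.X ^ 3 + Polynomial.X ^ 2 - Polynomial.X - 1) *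
          (Polynomial.X - 1)) : Polynomial (ZMod 3)) = Polynomial.X ^ 11 - 1 := by
      ring_nf; reduce_mod_char
    simpa [f1] using congrArg (Polynomial.aeval A) this
  by_cases h2 : (ρ x ^ 5 - ρ x ^ 3 + ρ x ^ 2 - ρ x - 1) *ᵥ ((ρ x - 1) *ᵥ v) = 0
  · refine ⟨_, hv, Or.inr ?_⟩
    have : f1 (ρ x⁻¹) = -ρ (x⁻¹ ^ 5) * (ρ x ^ 5 - ρ x ^ 3 + ρ x ^ 2 - ρ x - 1) := by
      simp only [f1, neg_mul, mul_sub, mul_add, ← map_pow, ← map_mul, mul_one]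
      rw [show x⁻¹ ^ 5 * x ^ 5 = 1 by group, show x⁻¹ ^ 5 * x ^ 3 = x⁻¹ ^ 2 by group,
        show x⁻¹ ^ 5 * x ^ 2 = x⁻¹ ^ 3 by group, show x⁻¹ ^ 5 * x = x⁻¹ ^ 4 by group, map_one]
      abel
    rw [this, ← mulVec_mulVec, h2, mulVec_zero]
  · refine ⟨_, h2, Or.inl ?_⟩
    rw [mulVec_mulVec, mulVec_mulVec, mul_assoc, p, ← map_pow, g.x11, map_one, sub_self, zero_mulVec]

end

end H99.R5.NM
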